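import Mathlib
import Groth.Agent.Lib.Helper5.LTen.DerQ

/-!
# Recognition of left derived functors along `Q` via adapted complexes (helper5)
-/
set_option autoImplicit false
set_option linter.unusedSectionVars false
set_option linter.unusedVariables false
universe w v u
open CategoryTheory CategoryTheory.Limits

namespace Groth.Agent.Lib.Helper5.DerQ

variable {A : Type u} [Category.{v} A] [Abelian A] [HasDerivedCategory.{w} A]
  {H : Type*} [Category H] {F : CochainComplex A ℤ ⥤ H} {KF : CochainComplex A ℤ → Prop}

/-- a functor on the derived category with a comparison map to `F` which is invertible on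
adapted complexes is the left derived functor of `F` -/
theorem isLeftDerivedFunctor_of_isIso (h : AdaptedQ F KF) (G : DerivedCategory A ⥤ H)
    (β : DerivedCategory.Q ⋙ G ⟶ F) (hβ : ∀ K : CochainComplex A ℤ, KF K → IsIso (β.app K)) :
    G.IsLeftDerivedFunctor β (HomologicalComplex.quasiIso A (ComplexShape.up ℤ)) := by
  have := hasLeftDerivedFunctor h
  let W := HomologicalComplex.quasiIso A (ComplexShape.up ℤ)
  let LF := F.totalLeftDerived DerivedCategory.Q W
  let α : DerivedCategory.Q ⋙ LF ⟶ F := F.totalLeftDerivedCounit DerivedCategory.Q W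
  rw [Functor.isLeftDerivedFunctor_iff_isIso_leftDerivedLift LF α W G β]
  have key : ∀ Y : DerivedCategory A, IsIso ((LF.leftDerivedLift α W G β).app Y) := by
    intro Y
    let K₀ : CochainComplex A ℤ := DerivedCategory.Q.objPreimage Y
    let e : DerivedCategory.Q.obj K₀ ≅ Y := DerivedCategory.Q.objObjPreimageIso Y
    obtain ⟨P, p, hP, hp⟩ := h.res K₀
    haveI : QuasiIso p := hp
    let e' : DerivedCategory.Q.obj P ≅ Y := asIso (DerivedCategory.Q.map p) ≪≫ e
    rw [← NatTrans.isIso_app_iff_of_iso _ e']
    have h1 := LF.leftDerived_fac_app α W G β P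
    have i1 : IsIso (α.app P) := isIso_counit_app h LF α P hP
    have i2 : IsIso ((LF.leftDerivedLift α W G β).app (DerivedCategory.Q.obj P) ≫ α.app P) := by
      rw [h1]
      exact hβ P hP
    exact IsIso.of_isIso_comp_right _ (α.app P)
  exact NatIso.isIso_of_isIso_app _

end Groth.Agent.Lib.Helper5.DerQ
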