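import Mathlib
import Groth.Prelude.Def_DCoh4
import Groth.Prelude.Def_CxOX
import Groth.Agent.Lib.Helper5.RestrTen.RestrTenS
import Groth.Agent.Lib.Helper5.StalkTen.StalkTenS
import Groth.Agent.Lib.Helper5.Stalk.Exact
import Groth.Agent.Lib.Helper5.Stalk.RpushSupp
import Groth.Agent.Lib.Helper5.Perf.LocalCoh

/-!
# The projection formula for extension by zero: `j_!(A ⊗ j^*B) ≅ j_!A ⊗ B` (helper5)
-/
set_option autoImplicit false
set_option linter.unusedSectionVars false
set_option linter.unusedVariables false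
universe u
open CategoryTheory CategoryTheory.Limits MonoidalCategory Opposite TopologicalSpace
  AlgebraicGeometry
open Groth.Agent.Lib.Helper5.StalkAdj Groth.Agent.Lib.Helper5.StalkTenS
  Groth.Agent.Lib.Helper5.RestrTen

namespace Groth.Agent.Lib.Helper5.ShriekProj

variable {X : Scheme.{u}} (V : X.Opens)

/-- restriction to `V` -/
noncomputable abbrev Rs : X.Modules ⥤ (V : Scheme.{u}).Modules := Scheme.Modules.restrictFunctor V.ι

/-- extension by zero from `V` -/
noncomputable abbrev Sh : (V : Scheme.{u}).Modules ⥤ X.Modules := CxOX.extZero V.ι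

/-- the adjunction `j_! ⊣ j^*` -/
noncomputable abbrev adjSh : Sh V ⊣ Rs V := CxOX.extZeroAdj V.ι

/-- the unit of `j_! ⊣ j^*` is an isomorphism -/
instance isIso_unit : IsIso (adjSh V).unit := by
  let t : CategoryTheory.Adjunction.Triple (Sh V) (Rs V) (Scheme.Modules.pushforward V.ι) :=
    ⟨adjSh V, Scheme.Modules.restrictAdjunction V.ι⟩
  exact t.isIso_unit_iff_isIso_counit.2 inferInstance

variable (A : (V : Scheme.{u}).Modules) (B : X.Modules)

/-- the adjoint of the projection morphism -/
noncomputable def ψ :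
    (DCoh.tensorBi.obj A).obj ((Rs V).obj B) ⟶
      (Rs V).obj ((DCoh.tensorBi.obj ((Sh V).obj A)).obj B) :=
  (DCoh.tensorBi.map ((adjSh V).unit.app A)).app ((Rs V).obj B) ≫
    (restrictTensorIso V.ι ((Sh V).obj A) B).inv

instance isIso_ψ : IsIso (ψ V A B) := by
  unfold ψ
  infer_instance

/-- **the projection morphism** `j_!(A ⊗ j^*B) ⟶ j_!A ⊗ B` -/
noncomputable def φ :
    (Sh V).obj ((DCoh.tensorBi.obj A).obj ((Rs V).obj B)) ⟶
      (DCoh.tensorBi.obj ((Sh V).obj A)).obj B :=
  ((adjSh V).homEquiv _ _).symm (ψ V A B)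

lemma unit_map_φ :
    (adjSh V).unit.app _ ≫ (Rs V).map (φ V A B) = ψ V A B := by
  have h := (adjSh V).homEquiv_unit (f := φ V A B)
  rw [← h]
  exact ((adjSh V).homEquiv _ _).apply_symm_apply _

variable {A B}

lemma φ_naturality_left {A' : (V : Scheme.{u}).Modules} (a : A ⟶ A') :
    (Sh V).map ((DCoh.tensorBi.map a).app ((Rs V).obj B)) ≫ φ V A' B =
      φ V A B ≫ (DCoh.tensorBi.map ((Sh V).map a)).app B := by
  apply ((adjSh V).homEquiv _ _).injective
  rw [Adjunction.homEquiv_naturality_left, Adjunction.homEquiv_naturality_right]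
  have h1 : ((adjSh V).homEquiv _ _) (φ V A' B) = ψ V A' B :=
    ((adjSh V).homEquiv _ _).apply_symm_apply _
  have h2 : ((adjSh V).homEquiv _ _) (φ V A B) = ψ V A B :=
    ((adjSh V).homEquiv _ _).apply_symm_apply _
  rw [h1, h2]
  unfold ψ
  have h3 : a ≫ (adjSh V).unit.app A' = (adjSh V).unit.app A ≫ (Rs V).map ((Sh V).map a) :=
    (adjSh V).unit.naturality a
  have h4 := restrictTensorIso_naturality_left V.ι ((Sh V).map a) B
  have h5 : (restrictTensorIso V.ι ((Sh V).obj A) B).inv ≫
      (Rs V).map ((DCoh.tensorBi.map ((Sh V).map a)).app B) =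
      (DCoh.tensorBi.map ((Rs V).map ((Sh V).map a))).app ((Rs V).obj B) ≫
        (restrictTensorIso V.ι ((Sh V).obj A') B).inv := by
    rw [Iso.inv_comp_eq, ← Category.assoc, Iso.eq_comp_inv]
    exact h4
  rw [Category.assoc, h5, ← Category.assoc, ← Category.assoc, ← NatTrans.comp_app,
    ← NatTrans.comp_app, ← Functor.map_comp, ← Functor.map_comp, h3]

lemma φ_naturality_right {B' : X.Modules} (b : B ⟶ B') :
    (Sh V).map ((DCoh.tensorBi.obj A).map ((Rs V).map b)) ≫ φ V A B' =
      φ V A B ≫ (DCoh.tensorBi.obj ((Sh V).obj A)).map b := by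
  apply ((adjSh V).homEquiv _ _).injective
  rw [Adjunction.homEquiv_naturality_left, Adjunction.homEquiv_naturality_right]
  have h1 : ((adjSh V).homEquiv _ _) (φ V A B') = ψ V A B' :=
    ((adjSh V).homEquiv _ _).apply_symm_apply _
  have h2 : ((adjSh V).homEquiv _ _) (φ V A B) = ψ V A B :=
    ((adjSh V).homEquiv _ _).apply_symm_apply _
  rw [h1, h2]
  unfold ψ
  have h4 := restrictTensorIso_naturality_right V.ι ((Sh V).obj A) b
  have h5 : (restrictTensorIso V.ι ((Sh V).obj A) B).inv ≫
      (Rs V).map ((DCoh.tensorBi.obj ((Sh V).obj A)).map b) =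
      (DCoh.tensorBi.obj ((Rs V).obj ((Sh V).obj A))).map ((Rs V).map b) ≫
        (restrictTensorIso V.ι ((Sh V).obj A) B').inv := by
    rw [Iso.inv_comp_eq, ← Category.assoc, Iso.eq_comp_inv]
    exact h4
  rw [Category.assoc, h5, ← Category.assoc, ← Category.assoc]
  congr 1
  exact (DCoh.tensorBi.map ((adjSh V).unit.app A)).naturality ((Rs V).map b)

variable (A B)

/-! ### Stalks outside `V` -/

/-- the restriction to `V` of a skyscraper at a point outside `V` vanishes -/
lemma isZero_restrict_sky (x : X) (hx : x ∉ V) (N : ModuleCat.{u} (X.presheaf.stalk x)) :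
    IsZero ((Rs V).obj ((skyS X x).obj N)) := by
  apply Groth.Agent.Lib.Helper5.LocalCoh.isZero_of_forall_subsingleton
  intro W
  refine ⟨fun s t => ?_⟩
  funext h
  exfalso
  obtain ⟨w, -, hw⟩ := h.down
  exact hx (hw ▸ w.2)

/-- the stalks of `j_! A` at points outside `V` vanish -/
lemma isZero_stalk_extZero (x : X) (hx : x ∉ V) :
    IsZero ((stalkSh X x).obj ((Sh V).obj A)) := by
  rw [IsZero.iff_id_eq_zero]
  apply ((adjS X x).homEquiv _ _).injective
  apply ((adjSh V).homEquiv _ _).injective
  exact (isZero_restrict_sky V x hx _).eq_of_tgt _ _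

/-- the stalk of a tensor product vanishes if the stalk of the first factor does -/
lemma isZero_stalk_tensor (x : X) (M : X.Modules) (h : IsZero ((stalkSh X x).obj M)) :
    IsZero ((stalkSh X x).obj ((DCoh.tensorBi.obj M).obj B)) := by
  refine IsZero.of_iso ?_ (stalkTensorIsoS X x M B)
  exact Functor.map_isZero (tensorRight ((stalkSh X x).obj B)) h

/-- a morphism which is an isomorphism over `V` and whose source and target have vanishing
stalks outside `V` is an isomorphism -/
theorem isIso_of_restrict_of_stalks {M N : X.Modules} (f : M ⟶ N)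
    (h1 : IsIso ((Rs V).map f))
    (h2 : ∀ x : X, x ∉ V → IsZero ((stalkSh X x).obj M))
    (h3 : ∀ x : X, x ∉ V → IsZero ((stalkSh X x).obj N)) : IsIso f := by
  have hstalk : ∀ (K : X.Modules), IsZero ((Rs V).obj K) →
      (∀ x : X, x ∉ V → IsZero ((stalkSh X x).obj K)) → IsZero K := by
    intro K hK hK'
    apply isZero_of_stalks
    intro x
    by_cases hx : x ∈ V
    · have hs : Subsingleton (K.presheaf.stalk x) :=
        Groth.Agent.Lib.Helper5.RpushSupp.subsingleton_stalk_of_isZero_restrict K V hK x hx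
      haveI : Subsingleton ↑((stalkSh X x).obj K) := hs
      exact ModuleCat.isZero_of_subsingleton _
    · exact hK' x hx
  have hk : IsZero (kernel f) := by
    apply hstalk
    · have e : (Rs V).obj (kernel f) ≅ kernel ((Rs V).map f) := PreservesKernel.iso (Rs V) f
      exact IsZero.of_iso (isZero_kernel_of_mono _) e
    · intro x hx
      haveI : Mono ((stalkSh X x).map (kernel.ι f)) := inferInstance
      exact IsZero.of_mono ((stalkSh X x).map (kernel.ι f)) (h2 x hx)
  have hc : IsZero (cokernel f) := by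
    apply hstalk
    · have e : (Rs V).obj (cokernel f) ≅ cokernel ((Rs V).map f) := PreservesCokernel.iso (Rs V) f
      exact IsZero.of_iso (isZero_cokernel_of_epi _) e
    · intro x hx
      haveI : Epi ((stalkSh X x).map (cokernel.π f)) := inferInstance
      exact IsZero.of_epi ((stalkSh X x).map (cokernel.π f)) (h3 x hx)
  haveI : Mono f := Preadditive.mono_of_kernel_zero (hk.eq_of_src _ _)
  haveI : Epi f := Preadditive.epi_of_cokernel_zero (hc.eq_of_tgt _ _)
  exact isIso_of_mono_of_epi f

/-- **the projection formula for `j_!`** -/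
instance isIso_φ : IsIso (φ V A B) := by
  apply isIso_of_restrict_of_stalks V
  · have h := unit_map_φ V A B
    haveI hu : IsIso ((adjSh V).unit.app ((DCoh.tensorBi.obj A).obj ((Rs V).obj B))) :=
      NatIso.isIso_app_of_isIso (adjSh V).unit _
    have h2 : IsIso ((adjSh V).unit.app ((DCoh.tensorBi.obj A).obj ((Rs V).obj B)) ≫
        (Rs V).map (φ V A B)) := by
      rw [h]
      infer_instance
    exact IsIso.of_isIso_comp_left ((adjSh V).unit.app ((DCoh.tensorBi.obj A).obj ((Rs V).obj B))) _
  · intro x hx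
    exact isZero_stalk_extZero V _ x hx
  · intro x hx
    exact isZero_stalk_tensor B x _ (isZero_stalk_extZero V A x hx)

/-- the projection isomorphism -/
noncomputable def φIso :
    (Sh V).obj ((DCoh.tensorBi.obj A).obj ((Rs V).obj B)) ≅
      (DCoh.tensorBi.obj ((Sh V).obj A)).obj B :=
  asIso (φ V A B)

end Groth.Agent.Lib.Helper5.ShriekProj
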