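import Mathlib
import Groth.Agent.Lib.Helper5.StalkTen.TotFun

/-!
# Naturality of `TotFun.totIso` in the first variable (helper5)
-/
set_option autoImplicit false
set_option linter.unusedSectionVars false
set_option linter.unusedVariables false
set_option linter.style.haveILetI false
universe v₁ u₁ v₂ u₂ v₃ u₃ v₄ u₄ v₅ u₅ v₆ u₆
open CategoryTheory CategoryTheory.Limits HomologicalComplex

namespace Groth.Agent.Lib.Helper5.TotFun

variable {A₁ : Type u₁} [Category.{v₁} A₁] [Preadditive A₁]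
  {A₂ : Type u₂} [Category.{v₂} A₂] [Preadditive A₂]
  {A : Type u₃} [Category.{v₃} A] [Preadditive A]
  {B₁ : Type u₄} [Category.{v₄} B₁] [Preadditive B₁]
  {B₂ : Type u₅} [Category.{v₅} B₂] [Preadditive B₂]
  {B : Type u₆} [Category.{v₆} B] [Preadditive B]
  (TA : A₁ ⥤ A₂ ⥤ A) [TA.PreservesZeroMorphisms] [∀ X, (TA.obj X).PreservesZeroMorphisms]
  (TB : B₁ ⥤ B₂ ⥤ B) [TB.PreservesZeroMorphisms] [∀ X, (TB.obj X).PreservesZeroMorphisms]
  (G₁ : A₁ ⥤ B₁) [G₁.Additive] (G₂ : A₂ ⥤ B₂) [G₂.Additive] (G : A ⥤ B) [G.Additive]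
  [∀ n : ℤ, PreservesColimitsOfShape (Discrete ((ComplexShape.π (ComplexShape.up ℤ)
    (ComplexShape.up ℤ) (ComplexShape.up ℤ)) ⁻¹' {n})) G]
  (φ : ∀ (P : A₁) (N : A₂), G.obj ((TA.obj P).obj N) ≅ (TB.obj (G₁.obj P)).obj (G₂.obj N))
  (hφ₁ : ∀ {P P' : A₁} (f : P ⟶ P') (N : A₂),
    G.map ((TA.map f).app N) ≫ (φ P' N).hom = (φ P N).hom ≫ (TB.map (G₁.map f)).app (G₂.obj N))
  (hφ₂ : ∀ (P : A₁) {N N' : A₂} (g : N ⟶ N'),
    G.map ((TA.obj P).map g) ≫ (φ P N').hom = (φ P N).hom ≫ (TB.obj (G₁.obj P)).map (G₂.map g))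
  {F F' : CochainComplex A₁ ℤ} (a : F ⟶ F') (K : CochainComplex A₂ ℤ)
  [HasMapBifunctor F K TA (ComplexShape.up ℤ)] [HasMapBifunctor F' K TA (ComplexShape.up ℤ)]
  [HasMapBifunctor ((G₁.mapHomologicalComplex _).obj F) ((G₂.mapHomologicalComplex _).obj K) TB
    (ComplexShape.up ℤ)]
  [HasMapBifunctor ((G₁.mapHomologicalComplex _).obj F') ((G₂.mapHomologicalComplex _).obj K) TB
    (ComplexShape.up ℤ)]

lemma ιA_map (p q n : ℤ) (h : p + q = n) :
    ιA TA F K p q n h ≫ (mapBifunctorMap a (𝟙 K) TA (ComplexShape.up ℤ)).f n =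
      (TA.map (a.f p)).app (K.X q) ≫ ιA TA F' K p q n h := by
  unfold ιA
  rw [ι_mapBifunctorMap]
  simp

lemma ιB_map (p q n : ℤ) (h : p + q = n) :
    ιB TB G₁ G₂ F K p q n h ≫
        (mapBifunctorMap ((G₁.mapHomologicalComplex (ComplexShape.up ℤ)).map a)
          (𝟙 ((G₂.mapHomologicalComplex (ComplexShape.up ℤ)).obj K)) TB (ComplexShape.up ℤ)).f n =
      (TB.map (G₁.map (a.f p))).app (G₂.obj (K.X q)) ≫ ιB TB G₁ G₂ F' K p q n h := by
  have h1 := ι_mapBifunctorMap ((G₁.mapHomologicalComplex (ComplexShape.up ℤ)).map a)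
    (𝟙 ((G₂.mapHomologicalComplex (ComplexShape.up ℤ)).obj K)) TB (ComplexShape.up ℤ) p q n h
  refine h1.trans ?_
  simp
  rfl

include hφ₁ hφ₂ in
/-- **naturality of `totIso` in the first variable** -/
theorem totIso_naturality₁ :
    (G.mapHomologicalComplex (ComplexShape.up ℤ)).map
        (mapBifunctorMap a (𝟙 K) TA (ComplexShape.up ℤ)) ≫
        (totIso TA TB G₁ G₂ G φ hφ₁ hφ₂ F' K).hom =
      (totIso TA TB G₁ G₂ G φ hφ₁ hφ₂ F K).hom ≫
        mapBifunctorMap ((G₁.mapHomologicalComplex (ComplexShape.up ℤ)).map a)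
          (𝟙 ((G₂.mapHomologicalComplex (ComplexShape.up ℤ)).obj K)) TB (ComplexShape.up ℤ) := by
  ext n
  apply hom_ext_G TA G F K
  intro p q hpq
  have e1 : ((G.mapHomologicalComplex (ComplexShape.up ℤ)).map
        (mapBifunctorMap a (𝟙 K) TA (ComplexShape.up ℤ)) ≫
        (totIso TA TB G₁ G₂ G φ hφ₁ hφ₂ F' K).hom).f n =
      G.map ((mapBifunctorMap a (𝟙 K) TA (ComplexShape.up ℤ)).f n) ≫
        (eIso TA TB G₁ G₂ G φ F' K n).hom := rfl
  have e2 : ((totIso TA TB G₁ G₂ G φ hφ₁ hφ₂ F K).hom ≫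
        mapBifunctorMap ((G₁.mapHomologicalComplex (ComplexShape.up ℤ)).map a)
          (𝟙 ((G₂.mapHomologicalComplex (ComplexShape.up ℤ)).obj K)) TB (ComplexShape.up ℤ)).f n =
      (eIso TA TB G₁ G₂ G φ F K n).hom ≫
        (mapBifunctorMap ((G₁.mapHomologicalComplex (ComplexShape.up ℤ)).map a)
          (𝟙 ((G₂.mapHomologicalComplex (ComplexShape.up ℤ)).obj K)) TB (ComplexShape.up ℤ)).f n :=
    rfl
  rw [e1, e2, ← Category.assoc, ← G.map_comp, ιA_map, G.map_comp, Category.assoc, ι_eIso,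
    ← Category.assoc, hφ₁, Category.assoc, ← Category.assoc (G.map _), ι_eIso, Category.assoc,
    ιB_map]

end Groth.Agent.Lib.Helper5.TotFun
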