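import Mathlib
import Groth.Agent.Lib.Helper5.ShriekProj.Sheaf
import Groth.Agent.Lib.Helper5.ShriekProj.TotFun2

/-!
# The projection formula for extension by zero, for complexes (helper5)
-/
set_option autoImplicit false
set_option linter.unusedSectionVars false
set_option linter.unusedVariables false
universe u
open CategoryTheory CategoryTheory.Limits MonoidalCategory Opposite TopologicalSpace
  AlgebraicGeometry HomologicalComplex

namespace Groth.Agent.Lib.Helper5.ShriekProj

variable {X : Scheme.{u}} (V : X.Opens)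

/-- the bifunctor `(A, B) ↦ A ⊗ B|_V` -/
noncomputable abbrev TA : (V : Scheme.{u}).Modules ⥤ X.Modules ⥤ (V : Scheme.{u}).Modules :=
  DCoh.tensorBi ⋙ (Functor.whiskeringLeft _ _ _).obj (Rs V)

instance : (TA V).PreservesZeroMorphisms where
  map_zero A A' := by
    apply NatTrans.ext
    funext B
    show (DCoh.tensorBi.map (0 : A ⟶ A')).app ((Rs V).obj B) = 0
    rw [Functor.map_zero]
    rfl

instance (A : (V : Scheme.{u}).Modules) : ((TA V).obj A).PreservesZeroMorphisms where
  map_zero B B' := by
    show (DCoh.tensorBi.obj A).map ((Rs V).map (0 : B ⟶ B')) = 0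
    rw [Functor.map_zero, Functor.map_zero]

/-- extension by zero of complexes -/
noncomputable abbrev ShCx :
    CochainComplex (V : Scheme.{u}).Modules ℤ ⥤ CochainComplex X.Modules ℤ :=
  (Sh V).mapHomologicalComplex (ComplexShape.up ℤ)

variable (N : CochainComplex (V : Scheme.{u}).Modules ℤ) (K : CochainComplex X.Modules ℤ)

/-- the projection isomorphism for complexes, raw form -/
noncomputable def cxIsoRaw :
    (ShCx V).obj (mapBifunctor N K (TA V) (ComplexShape.up ℤ)) ≅
      mapBifunctor ((ShCx V).obj N) (((𝟭 X.Modules).mapHomologicalComplex _).obj K) DCoh.tensorBi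
        (ComplexShape.up ℤ) :=
  Groth.Agent.Lib.Helper5.TotFun.totIso (TA V) DCoh.tensorBi (Sh V) (𝟭 X.Modules) (Sh V)
    (fun A B => φIso V A B)
    (fun f B => φ_naturality_left V f)
    (fun A _ _ g => φ_naturality_right V g) N K

/-- **the projection isomorphism for complexes** `j_!(N ⊗ K|_V) ≅ j_!N ⊗ K` -/
noncomputable def cxIso :
    (ShCx V).obj ((DCoh.tensorCx.obj N).obj ((DCoh.restrictCx V).obj K)) ≅
      (DCoh.tensorCx.obj ((ShCx V).obj N)).obj K :=
  cxIsoRaw V N K

variable {N}

/-- naturality of the projection isomorphism in the first variable -/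
lemma cxIso_naturality {N' : CochainComplex (V : Scheme.{u}).Modules ℤ} (a : N ⟶ N') :
    (ShCx V).map ((DCoh.tensorCx.map a).app ((DCoh.restrictCx V).obj K)) ≫ (cxIso V N' K).hom =
      (cxIso V N K).hom ≫ (DCoh.tensorCx.map ((ShCx V).map a)).app K :=
  Groth.Agent.Lib.Helper5.TotFun.totIso_naturality₁ (TA V) DCoh.tensorBi (Sh V) (𝟭 X.Modules)
    (Sh V) (fun A B => φIso V A B)
    (fun f B => φ_naturality_left V f)
    (fun A _ _ g => φ_naturality_right V g) a K

/-- **the projection isomorphism as a natural isomorphism of functors of `N`** -/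
noncomputable def cxNatIso :
    (DCoh.tensorCx (X := (V : Scheme.{u}))).flip.obj ((DCoh.restrictCx V).obj K) ⋙ ShCx V ≅
      ShCx V ⋙ (DCoh.tensorCx (X := X)).flip.obj K :=
  NatIso.ofComponents (fun N => cxIso V N K) (fun a => cxIso_naturality V K a)

end Groth.Agent.Lib.Helper5.ShriekProj
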