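import Mathlib
import Groth.Agent.Lib.Helper5.ShriekProj.Cx
import Groth.Agent.Lib.Helper5.KFlatSite2.Two
import Groth.Agent.Lib.Helper5.Perf.LocNull
import Groth.Agent.Lib.Helper5.BvdB.Adj2

/-!
# Extension by zero preserves K-flat complexes (helper5)
-/
set_option autoImplicit false
set_option linter.unusedSectionVars false
set_option linter.unusedVariables false
universe u
open CategoryTheory CategoryTheory.Limits MonoidalCategory Opposite TopologicalSpace
  AlgebraicGeometry HomologicalComplex
attribute [local instance] HasDerivedCategory.standard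

namespace Groth.Agent.Lib.Helper5.ShriekProj

variable {X : Scheme.{u}} (V : X.Opens)

attribute [local instance] Groth.Agent.Lib.Helper5.BvdB.preservesFiniteLimits_extZero

/-- exact functors preserve acyclic complexes -/
lemma acyclic_map {A B : Type*} [Category A] [Category B] [Abelian A] [Abelian B]
    (G : A ⥤ B) [G.Additive] [PreservesFiniteLimits G] [PreservesFiniteColimits G]
    (K : CochainComplex A ℤ) (h : ∀ i : ℤ, IsZero (K.homology i)) (i : ℤ) :
    IsZero (((G.mapHomologicalComplex (ComplexShape.up ℤ)).obj K).homology i) := by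
  rw [← HomologicalComplex.exactAt_iff_isZero_homology]
  apply Groth.Agent.Lib.Helper5.LocNull.exactAt_map
  rw [HomologicalComplex.exactAt_iff_isZero_homology]
  exact h i

/-- **extension by zero preserves K-flat complexes** -/
theorem isKFlat_extZero (N : CochainComplex (V : Scheme.{u}).Modules ℤ) (hN : DCoh.IsKFlat N) :
    DCoh.IsKFlat ((ShCx V).obj N) := by
  intro L hL i
  have hLV : ∀ i : ℤ, IsZero (((DCoh.restrictCx V).obj L).homology i) :=
    acyclic_map (Rs V) L hL
  have h1 : ∀ i : ℤ,
      IsZero (((DCoh.tensorCx.obj N).obj ((DCoh.restrictCx V).obj L)).homology i) :=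
    Groth.Agent.Lib.Helper5.KFlatSiteQ.acyc_tensor_left (O := (V : Scheme.{u}).sheaf) hN _ hLV
  have h2 : ∀ i : ℤ, IsZero (((ShCx V).obj
      ((DCoh.tensorCx.obj N).obj ((DCoh.restrictCx V).obj L))).homology i) :=
    acyclic_map (Sh V) _ h1
  have e1 : (DCoh.tensorCx.obj ((ShCx V).obj N)).obj L ≅ (DCoh.tensorCx.obj L).obj ((ShCx V).obj N) :=
    Groth.Agent.Lib.Helper5.KFlatG.braid (ModSite.tensorBi X.sheaf)
      (Groth.Agent.Lib.Helper5.KFlatSiteQ.flipIso X.sheaf) ((ShCx V).obj N) L
  exact Groth.Agent.Lib.Helper5.Misc.KFlatGen.acyclic_of_iso (cxIso V N L ≪≫ e1) h2 i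

end Groth.Agent.Lib.Helper5.ShriekProj
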