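import Mathlib
import Groth.Prelude.Def_DCoh4
import Groth.Agent.Lib.Helper5.ShriekProj.KFlat
import Groth.Agent.Lib.Helper5.ShriekProj.DerQ2
import Groth.Agent.Lib.Helper5.LTen.LTenAll
import Groth.Agent.Lib.Helper5.LTen.AssocD
import Groth.Agent.Lib.Helper5.BvdB.Adj2

/-!
# The derived projection formula for extension by zero and the restriction of `RHom` (helper5)
-/
set_option autoImplicit false
set_option linter.unusedSectionVars false
set_option linter.unusedVariables false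
set_option linter.style.haveILetI false
universe u
open CategoryTheory CategoryTheory.Limits AlgebraicGeometry
open Groth.Agent.Lib.Helper5.DerQ
attribute [local instance] HasDerivedCategory.standard

namespace Groth.Agent.Lib.Helper5.ShriekProj

variable {X : Scheme.{u}} (V : X.Opens) (K : CochainComplex X.Modules ℤ)

attribute [local instance] Groth.Agent.Lib.Helper5.BvdB.preservesFiniteLimits_extZero

/-- the restriction of `K` to `V` -/
noncomputable abbrev KV : CochainComplex (V : Scheme.{u}).Modules ℤ := (DCoh.restrictCx V).obj K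

/-- `Q ⋙ j_! ≅ j_! ⋙ Q` -/
noncomputable abbrev facSh :
    DerivedCategory.Q ⋙ CxOX.extZeroD V.ι ≅ ShCx V ⋙ DerivedCategory.Q :=
  (Sh V).mapDerivedCategoryFactors

/-- `N ↦ Q (j_! N ⊗ K)` -/
noncomputable abbrev F₁ : CochainComplex (V : Scheme.{u}).Modules ℤ ⥤ DCoh.D X :=
  ShCx V ⋙ DCoh.tensorCxQ K

/-- `N ↦ j_! Q (N ⊗ K|_V)` -/
noncomputable abbrev F₂ : CochainComplex (V : Scheme.{u}).Modules ℤ ⥤ DCoh.D X :=
  DCoh.tensorCxQ (KV V K) ⋙ CxOX.extZeroD V.ι

/-- the projection isomorphism between the underived functors -/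
noncomputable def τ : F₂ V K ≅ F₁ V K :=
  Functor.associator _ _ _ ≪≫
    Functor.isoWhiskerLeft ((DCoh.tensorCx (X := (V : Scheme.{u}))).flip.obj (KV V K)) (facSh V) ≪≫
    (Functor.associator _ _ _).symm ≪≫
    Functor.isoWhiskerRight (cxNatIso V K) DerivedCategory.Q ≪≫ Functor.associator _ _ _

theorem adapted₁ : AdaptedQ (F₁ V K)
    (fun N : CochainComplex (V : Scheme.{u}).Modules ℤ => DCoh.IsKFlat N) where
  htpy f g hfg :=
    (Groth.Agent.Lib.Helper5.LTenAll.adaptedQ_tensorCxQ K).htpy _ _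
      ((Sh V).mapHomotopy hfg)
  res N := by
    obtain ⟨P, p, h1, _, h3, _⟩ :=
      Groth.Agent.Lib.Helper5.KFlatSiteQ.exists_isKFlat_resolution
        (O := (V : Scheme.{u}).sheaf) N
    exact ⟨P, p, h1, h3⟩
  inv f hP hP' hf := by
    haveI : QuasiIso f := hf
    exact (Groth.Agent.Lib.Helper5.LTenAll.adaptedQ_tensorCxQ K).inv ((ShCx V).map f)
      (isKFlat_extZero V _ hP) (isKFlat_extZero V _ hP') inferInstance

theorem adapted₂ : AdaptedQ (F₂ V K)
    (fun N : CochainComplex (V : Scheme.{u}).Modules ℤ => DCoh.IsKFlat N) where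
  htpy f g hfg := by
    show (CxOX.extZeroD V.ι).map ((DCoh.tensorCxQ (KV V K)).map f) =
      (CxOX.extZeroD V.ι).map ((DCoh.tensorCxQ (KV V K)).map g)
    rw [(Groth.Agent.Lib.Helper5.LTenAll.adaptedQ_tensorCxQ (KV V K)).htpy f g hfg]
  res N := (adapted₁ V K).res N
  inv f hP hP' hf := by
    haveI := (Groth.Agent.Lib.Helper5.LTenAll.adaptedQ_tensorCxQ (KV V K)).inv f hP hP' hf
    show IsIso ((CxOX.extZeroD V.ι).map ((DCoh.tensorCxQ (KV V K)).map f))
    infer_instance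

variable [DCoh.HasLTensorCx K] [DCoh.HasLTensorCx (KV V K)]

open Groth.Agent.Lib.Helper5.AssocD in
/-- `j_! (-) ⊗^L K` -/
noncomputable abbrev G₁ : DCoh.D (V : Scheme.{u}) ⥤ DCoh.D X :=
  CxOX.extZeroD V.ι ⋙ DCoh.LTensorCx K

/-- `j_! (- ⊗^L K|_V)` -/
noncomputable abbrev G₂ : DCoh.D (V : Scheme.{u}) ⥤ DCoh.D X :=
  DCoh.LTensorCx (KV V K) ⋙ CxOX.extZeroD V.ι

/-- the comparison map for `G₁` -/
noncomputable def β₁ : DerivedCategory.Q ⋙ G₁ V K ⟶ F₁ V K :=
  (Functor.associator _ _ _).inv ≫ Functor.whiskerRight (facSh V).hom (DCoh.LTensorCx K) ≫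
    (Functor.associator _ _ _).hom ≫
    Functor.whiskerLeft (ShCx V) (Groth.Agent.Lib.Helper5.AssocD.ε K)

/-- the comparison map for `G₂` -/
noncomputable def β₂ : DerivedCategory.Q ⋙ G₂ V K ⟶ F₂ V K :=
  (Functor.associator _ _ _).inv ≫
    Functor.whiskerRight (Groth.Agent.Lib.Helper5.AssocD.ε (KV V K)) (CxOX.extZeroD V.ι)

lemma β₁_app (N : CochainComplex (V : Scheme.{u}).Modules ℤ) :
    (β₁ V K).app N = (DCoh.LTensorCx K).map ((facSh V).hom.app N) ≫
      (Groth.Agent.Lib.Helper5.AssocD.ε K).app ((ShCx V).obj N) := by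
  dsimp [β₁]
  simp only [Category.id_comp]

lemma β₂_app (N : CochainComplex (V : Scheme.{u}).Modules ℤ) :
    (β₂ V K).app N =
      (CxOX.extZeroD V.ι).map ((Groth.Agent.Lib.Helper5.AssocD.ε (KV V K)).app N) := by
  dsimp [β₂]
  simp only [Category.id_comp]

instance isLeft₁ : (G₁ V K).IsLeftDerivedFunctor (β₁ V K)
    (HomologicalComplex.quasiIso (V : Scheme.{u}).Modules (ComplexShape.up ℤ)) := by
  apply isLeftDerivedFunctor_of_isIso (adapted₁ V K)
  intro N hN
  rw [β₁_app]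
  haveI : IsIso ((Groth.Agent.Lib.Helper5.AssocD.ε K).app ((ShCx V).obj N)) :=
    isIso_counit_app (Groth.Agent.Lib.Helper5.LTenAll.adaptedQ_tensorCxQ K)
      (DCoh.LTensorCx K) _ _ (isKFlat_extZero V N hN)
  infer_instance

instance isLeft₂ : (G₂ V K).IsLeftDerivedFunctor (β₂ V K)
    (HomologicalComplex.quasiIso (V : Scheme.{u}).Modules (ComplexShape.up ℤ)) := by
  apply isLeftDerivedFunctor_of_isIso (adapted₂ V K)
  intro N hN
  rw [β₂_app]
  haveI : IsIso ((Groth.Agent.Lib.Helper5.AssocD.ε (KV V K)).app N) :=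
    isIso_counit_app (Groth.Agent.Lib.Helper5.LTenAll.adaptedQ_tensorCxQ (KV V K))
      (DCoh.LTensorCx (KV V K)) _ _ hN
  infer_instance

/-- **the derived projection formula** `j_!(N ⊗^L K|_V) ≅ j_! N ⊗^L K`, naturally in `N` -/
noncomputable def derProjIso : G₂ V K ≅ G₁ V K :=
  Functor.leftDerivedNatIso (G₂ V K) (G₁ V K) (β₂ V K) (β₁ V K)
    (HomologicalComplex.quasiIso (V : Scheme.{u}).Modules (ComplexShape.up ℤ)) (τ V K)

variable [DCoh.HasRSheafHom K] [DCoh.HasRSheafHom (KV V K)]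
  [PreservesFiniteLimits (Scheme.Modules.restrictFunctor V.ι)]

/-- **`RHom` commutes with restriction to an open subscheme** -/
noncomputable def rhomRestrictIso :
    DCoh.RSheafHom K ⋙ DCoh.restrictD V.ι ≅ DCoh.restrictD V.ι ⋙ DCoh.RSheafHom (KV V K) :=
  ((((Groth.Agent.Lib.Helper5.BvdB.shriekAdj V).comp (DCoh.RSheafHomAdj K)).ofNatIsoLeft
    (derProjIso V K).symm).rightAdjointUniq
    ((DCoh.RSheafHomAdj (KV V K)).comp (Groth.Agent.Lib.Helper5.BvdB.shriekAdj V)))

end Groth.Agent.Lib.Helper5.ShriekProj
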